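import Cfsg.Agent.Lib.SuzukiRankOne.UnitaryModel
import Cfsg.Agent.Lib.Unitary.Center
import Cfsg.Agent.Lib.RankOne.Setup
import Cfsg.Agent.EqLemmas

/-!
# `PSU₃(q)`, `q` even and at least `4`, has an involution whose centraliser is not a 2-group
(owner: helper2)

The two point stabiliser has order `(q² - 1)/d > q - 1`, so one of its non-trivial elements, all of
odd order, fixes one of the `q - 1` involutions of the point stabiliser.
-/

set_option autoImplicit false

namespace Cfsg.Agent.FusionSuzuki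

open MulAction

theorem not_cit_of_setup {G Ω : Type*} [Group G] [Finite G] [MulAction G Ω] {a : Ω} {t : G}
    {Q : Subgroup G} (h : Cfsg.IsRankOneSetup G Ω a t Q) {q g : ℕ} (hq4 : 4 ≤ q)
    (hparam : SuzukiRankOne.param G a = q) (hQ : Nat.card Q = q ^ 3) (hg : g ≤ 3)
    (hcard : g * ((q + 1) * Nat.card G) = q ^ 3 * ((q + 1) * (q ^ 2 - 1) * (q ^ 3 + 1)))
    {L : Type*} [Group L] [Finite L] (e : L ≃* G) :
    ∃ x : L, orderOf x = 2 ∧ ¬ IsPGroup 2 (Subgroup.centralizer ({x} : Set L)) := by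
  classical
  set D := stabilizer (G) a ⊓ stabilizer (G) (t • a) with hD
  set I := Cfsg.involutionsIn (stabilizer (G) a : Set (G)) with hI
  have hcI : Nat.card I + 1 = q := hparam
  by_contra hcit
  push Not at hcit
  have hc : ∀ x : G, orderOf x = 2 →
      ∀ d : G, d * x = x * d → Odd (orderOf d) → d = 1 := by
    intro x hx d hd hodd
    have hx' : orderOf (e.symm x) = 2 := by rw [MulEquiv.orderOf_eq, hx]
    obtain ⟨k, hk⟩ := (IsPGroup.iff_orderOf.1 (hcit _ hx'))
      ⟨e.symm d, Subgroup.mem_centralizer_singleton_iff.2 (by rw [← map_mul, ← map_mul, hd])⟩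
    rw [Subgroup.orderOf_mk, MulEquiv.orderOf_eq] at hk
    rcases k with _ | k
    · exact orderOf_eq_one_iff.1 (by simpa using hk)
    · exact absurd hodd (by rw [hk, Nat.not_odd_iff_even]; exact Nat.even_pow.2 ⟨even_two, by omega⟩)
  obtain ⟨z, hz⟩ : Nonempty I := (Nat.card_pos_iff.1 (by omega : 0 < Nat.card I)).1
  have hz2 : orderOf z = 2 := orderOf_eq_prime (by rw [sq]; exact hz.2.2) hz.2.1
  have hinj : Function.Injective (fun d : D => (⟨(d : G) * z * (d : G)⁻¹,
      ⟨(stabilizer (G) a).mul_mem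
        ((stabilizer (G) a).mul_mem d.2.1 hz.1) (inv_mem d.2.1),
        fun h1 => hz.2.1 (conj_eq_one_iff.1 h1),
        by rw [show (d : G) * z * (d : G)⁻¹ *
          ((d : G) * z * (d : G)⁻¹) =
          (d : G) * (z * z) * (d : G)⁻¹ by group, hz.2.2]; group⟩⟩ : I)) := by
    intro d d' hdd
    have h1 : (d : G) * z * (d : G)⁻¹ =
        (d' : G) * z * (d' : G)⁻¹ := congrArg Subtype.val hdd
    have h2 := hc z hz2 ((d'⁻¹ * d : D) : G) (by
      rw [Subgroup.coe_mul, Subgroup.coe_inv]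
      calc (d' : G)⁻¹ * d * z
          = (d' : G)⁻¹ * ((d : G) * z * (d : G)⁻¹) * d := by group
        _ = z * ((d' : G)⁻¹ * d) := by rw [h1]; group)
      (h.odd_card.of_dvd_nat (Subgroup.orderOf_dvd_natCard _ (d'⁻¹ * d : D).2))
    exact (inv_mul_eq_one.1 (Subtype.ext h2)).symm
  have hle : Nat.card D ≤ Nat.card I := Nat.card_le_card_of_injective _ hinj
  have h1 := RankOne.Setup.card_group h
  rw [hQ, ← hD] at h1
  have h2 := hcard
  rw [h1] at h2
  have hsq : q ^ 2 - 1 = (q + 1) * (q - 1) := by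
    simpa using Nat.sq_sub_sq q 1
  rw [hsq] at h2
  have h3 : g * Nat.card D = (q + 1) * (q - 1) := by
    have hpos : 0 < (q + 1) * (q ^ 3 * (q ^ 3 + 1)) := by positivity
    refine Nat.eq_of_mul_eq_mul_left hpos ?_
    linarith
  have h4 : g * Nat.card D ≤ 3 * (q - 1) := Nat.mul_le_mul hg (by omega)
  rw [h3] at h4
  have := Nat.le_of_mul_le_mul_right h4 (by omega)
  omega


theorem psu_not_cit {F : Type} [Field F] [Fintype F] {n : ℕ} (hn : 2 ≤ n)
    (hF : Fintype.card F = (2 ^ n) ^ 2) {L : Type*} [Group L] [Finite L]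
    (e : L ≃* Cfsg.PSU 3 F (2 ^ n)) :
    ∃ x : L, orderOf x = 2 ∧ ¬ IsPGroup 2 (Subgroup.centralizer ({x} : Set L)) := by
  obtain ⟨Ω, _, _, a, t, Q, h, -, -, -, hparam, hQ⟩ := SuzukiRankOne.unitaryModel F n hn hF
  have h2 := Unitary.card_PSU (n := 3) hF (by norm_num)
  simp [Finset.prod_range_succ] at h2
  exact not_cit_of_setup h (Nat.pow_le_pow_right (by norm_num : 0 < 2) hn) hparam hQ
    (Nat.gcd_le_left (n := 2 ^ n + 1) (by norm_num : 0 < 3)) h2 e

end Cfsg.Agent.FusionSuzuki
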