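import Cfsg.Agent.Lib.Bender.RankOneHalf
import Cfsg.Agent.Lib.Bender.Consumers
import Cfsg.Agent.Lib.Involution.StronglyEmbedded
import Cfsg.Agent.Lib.FusionSuzuki.Two.Unitary

/-!
# A simple CIT group with centralisers of involutions inside one Sylow normaliser (owner: helper2)

* `sylow_normalizer_stronglyEmbedded` : the Sylow normaliser is strongly embedded
* `elementary_or_suzuki` : the Sylow 2-subgroup is elementary abelian or the group is a Suzuki group
-/

set_option autoImplicit false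
set_option linter.style.haveILetI false

namespace Cfsg.Agent.FusionSuzuki

open Subgroup

universe u

variable {L : Type u} [Group L] [Finite L] [IsSimpleGroup L]

/-- A simple group with a strongly embedded subgroup, 2-rank at least two and 2-group involution
centralisers has elementary abelian Sylow 2-subgroups or is a Suzuki group. -/
theorem elementary_or_suzuki {H : Subgroup L} (hH : Cfsg.IsStronglyEmbedded H)
    (h2 : SuzukiRankOne.TwoInvolutions L)
    (hcit : ∀ x : L, orderOf x = 2 → IsPGroup 2 (centralizer ({x} : Set L))) :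
    (∀ S : Sylow 2 L, Cfsg.IsElementaryAbelian 2 (S : Subgroup L)) ∨ Cfsg.Lie.IsoSuzuki L := by
  haveI : Fact (Nat.Prime 2) := ⟨Nat.prime_two⟩
  have hcore : H.normalCore = ⊥ := Bender.normalCore_of_simple hH
  obtain ⟨t, Q, h⟩ := Bender.rankOneHalf L H hH hcore h2
  haveI := Bender.faithful_of_normalCore hcore
  obtain ⟨hQ2, ⟨S₀, hS₀⟩, -⟩ := Bender.sylow_normal h h2
  obtain ⟨-, hel⟩ := SuzukiRankOne.kernelShape L _ _ t Q h h2
  by_cases hc : IsMulCommutative Q
  · refine Or.inl fun S => ?_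
    have hpow : ∀ x ∈ (S₀ : Subgroup L), x ^ 2 = 1 := fun x hx => by
      rw [sq]; exact hel hc x (hS₀ ▸ hx)
    have hall : ∀ x : ↥(S : Subgroup L), x ^ 2 = 1 := fun x => by
      refine (S₀.equiv S).symm.injective ?_
      rw [map_pow, map_one]
      exact Subtype.ext (hpow _ ((S₀.equiv S).symm x).2)
    refine ⟨⟨⟨fun x y => ?_⟩⟩, fun a ha => congrArg Subtype.val (hall ⟨a, ha⟩)⟩
    have hinv : ∀ z : ↥(S : Subgroup L), z⁻¹ = z := fun z =>
      inv_eq_of_mul_eq_one_right (by rw [← sq]; exact hall z)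
    calc x * y = (x * y)⁻¹ := (hinv _).symm
      _ = y * x := by rw [mul_inv_rev, hinv, hinv]
  obtain ⟨n, hn, hq, ⟨C⟩⟩ := SuzukiRankOne.exists_coords h h2
  haveI := Fintype.ofFinite (GaloisField 2 n)
  have hcard : Nat.card (GaloisField 2 n) = SuzukiRankOne.param L ((1 : L) : L ⧸ H) := by
    rw [hq, GaloisField.card 2 n (by omega)]
  have htop : ∀ M : Subgroup L, M.Normal → Odd M.index → M = ⊤ := fun M hM hodd =>
    hM.eq_bot_or_eq_top.resolve_left fun e => by
      rw [e, index_bot] at hodd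
      exact Nat.not_even_iff_odd.2 hodd (even_iff_two_dvd.2
        ((Involution.orderOf_of_sq h.mul_self h.ne_one) ▸ orderOf_dvd_natCard t))
  rcases C.card_cases h h2 hQ2 hc with e | e <;> rw [hcard] at e
  · obtain ⟨M, h1, h2', F, _, _, m, hm, hF, ⟨f⟩⟩ := SuzukiRankOne.Suzuki.suzukiShape L _ _ t Q h h2 hQ2 hc e
    obtain rfl := htop M h1 h2'
    exact Or.inr ⟨F, _, _, m, hm, hF, ⟨topEquiv.symm.trans f⟩⟩
  · obtain ⟨M, h1, h2', F, _, _, k, hk, hF, ⟨f⟩⟩ := SuzukiRankOne.unitary_case h h2 hQ2 hc e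
    obtain rfl := htop M h1 h2'
    obtain ⟨x, hx, hx'⟩ := psu_not_cit hk hF (topEquiv.symm.trans f)
    exact absurd (hcit x hx) hx'

end Cfsg.Agent.FusionSuzuki
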