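import Cfsg.Agent.Lib.FusionSuzuki.Basic
import Cfsg.Agent.Lib.FusionSuzuki.Two.Simple
import Cfsg.Agent.Lib.TwoNilCent.UFourFinal
import Cfsg.Agent.Lib.TwoNilCent.RankTwo
import Cfsg.Agent.Lib.AbelianSylowTwo.RankTwo
import Cfsg.Agent.Lib.Goldschmidt.ThreeInv.SylowFacts
import Cfsg.Agent.Lib.Goldschmidt.ThreePrime.SzFacts
import Cfsg.Agent.Lib.ZStar.Apply
import Cfsg.Agent.Lib.ZStar.Unique
import Cfsg.Agent.Lib.CentralMeet.Basic
import Cfsg.Agent.Lib.Cores.Subnormal
import Cfsg.Agent.S0949
import Cfsg.Agent.S0721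

/-!
# The case `p = 2` (owner: helper2)

* `exists_simple_normal` : a simple normal subgroup with trivial centraliser
* `iso_suzuki` : the group is a Suzuki group unless its Sylow 2-subgroup is elementary with all
  involutions fused
-/

set_option autoImplicit false
set_option linter.style.haveILetI false

namespace Cfsg.Agent.FusionSuzuki

open Cfsg Subgroup

universe u

variable {G : Type u} [Group G] [Finite G] [Fact (Nat.Prime 2)] {P : Sylow 2 G}

namespace Ctx

variable (h : Ctx P)

include h

theorem solvable {t : G} (ht : orderOf t = 2) :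
    Group.IsSolvable (centralizer ({t} : Set G)) :=
  ThreeOrders.isSolvable_of_complement (h.nil_prime ht)

/-- A normal subgroup which is commutative is trivial. -/
theorem eq_bot_of_odd_or_two {N : Subgroup G} [hN : N.Normal]
    (hd : ¬ 2 ∣ Nat.card N ∨ IsPGroup 2 N) : N = ⊥ := by
  rcases hd with hd | hd
  · exact le_bot_iff.1 (h.core ▸ Cores.le_pPrimeCore hN
      ((Nat.prime_two.coprime_iff_not_dvd.2 hd).symm))
  · exact le_bot_iff.1 (h.pCore_eq_bot ▸ Cores.le_pCore hN hd)

/-- A simple normal subgroup with trivial centraliser. -/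
theorem exists_simple_normal :
    ∃ (M : Subgroup G) (_ : M.Normal), IsSimpleGroup M ∧ ¬ IsMulCommutative M ∧
      2 ∣ Nat.card M ∧ centralizer (M : Set G) = ⊥ := by
  classical
  haveI : Nontrivial G := by
    by_contra hn
    rw [not_nontrivial_iff_subsingleton] at hn
    exact h.notNormal ⟨fun x hx g => by rwa [Subsingleton.elim (g * x * g⁻¹) x]⟩
  obtain ⟨M, hM, hM1, hmin⟩ := Cores.exists_minimal_normal (G := G)
  haveI := hM
  obtain ⟨T, _, m, hT, hm, ⟨e⟩⟩ := S0721.result M hM1 hmin
  haveI := hT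
  have heven : 2 ∣ Nat.card M := by
    by_contra hd
    exact hM1 (h.eq_bot_of_odd_or_two (Or.inl hd))
  haveI : Finite T := Finite.of_injective (fun s : T => e.symm (fun _ => s))
    fun s s' hs => congrFun (e.symm.injective hs) ⟨0, hm⟩
  have hcardM : Nat.card M = Nat.card T ^ m := by
    rw [Nat.card_congr e.toEquiv, Nat.card_fun, Nat.card_eq_fintype_card (α := Fin m), Fintype.card_fin]
  have hnc : ¬ IsMulCommutative T := by
    intro hc
    haveI := hc
    letI : CommGroup T := { (inferInstance : Group T) with mul_comm := hc.is_comm.comm }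
    have hprime : (Nat.card T).Prime := IsSimpleGroup.prime_card
    rw [hcardM] at heven
    have h2 : Nat.card T = 2 := ((Nat.prime_dvd_prime_iff_eq Nat.prime_two hprime).1
      (Nat.prime_two.dvd_of_dvd_pow heven)).symm
    exact hM1 (h.eq_bot_of_odd_or_two (Or.inr (IsPGroup.of_card (n := m) (by rw [hcardM, h2]))))
  have hm1 : m = 1 := by
    by_contra hne
    obtain ⟨τ, hτ⟩ : ∃ τ : T, orderOf τ = 2 :=
      exists_prime_orderOf_dvd_card' 2 (Nat.prime_two.dvd_of_dvd_pow (hcardM ▸ heven))
    set a : G := ((e.symm (Pi.mulSingle (⟨0, hm⟩ : Fin m) τ) : M) : G) with ha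
    have hord : orderOf a = 2 := by
      rw [ha, Subgroup.orderOf_coe, MulEquiv.orderOf_eq, ← MonoidHom.mulSingle_apply,
        orderOf_injective (MonoidHom.mulSingle (fun _ : Fin m => T) (⟨0, hm⟩ : Fin m))
          (Pi.mulSingle_injective (M := fun _ : Fin m => T) (⟨0, hm⟩ : Fin m)), hτ]
    haveI := h.solvable hord
    let φ : T →* G := (M.subtype.comp e.symm.toMonoidHom).comp
      (MonoidHom.mulSingle (fun _ : Fin m => T) (⟨1, by omega⟩ : Fin m))
    have hmem : ∀ s : T, φ s ∈ centralizer ({a} : Set G) := fun s => by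
      refine mem_centralizer_singleton_iff.2 ?_
      rw [ha]
      show ((e.symm (Pi.mulSingle ⟨1, by omega⟩ s) : M) : G) * (e.symm (Pi.mulSingle ⟨0, hm⟩ τ) : M) =
        (e.symm (Pi.mulSingle ⟨0, hm⟩ τ) : M) * (e.symm (Pi.mulSingle ⟨1, by omega⟩ s) : M)
      rw [← Subgroup.coe_mul, ← Subgroup.coe_mul, ← map_mul, ← map_mul,
        (Pi.mulSingle_commute (f := fun _ : Fin m => T) (by simp [Fin.ext_iff]) s τ).eq]
    let f : T →* centralizer ({a} : Set G) := φ.codRestrict _ hmem
    have hf : Function.Injective f := fun s s' hs =>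
      Pi.mulSingle_injective (M := fun _ : Fin m => T) (⟨1, by omega⟩ : Fin m)
        (e.symm.injective (Subtype.ext (congrArg (fun c : centralizer ({a} : Set G) => (c : G)) hs)))
    haveI : Group.IsSolvable T := Group.isSolvable_of_isSolvable_injective hf
    exact hnc ⟨⟨IsSimpleGroup.comm_iff_isSolvable.2 inferInstance⟩⟩
  subst hm1
  let e' : M ≃* T := e.trans (MulEquiv.piUnique fun _ : Fin 1 => T)
  haveI hMs : IsSimpleGroup M :=
    haveI := e'.toEquiv.nontrivial
    IsSimpleGroup.isSimpleGroup_of_surjective e'.symm.toMonoidHom e'.symm.surjective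
  have hMnc : ¬ IsMulCommutative M := fun hc => hnc ⟨⟨fun x y => e'.symm.injective (by
    rw [map_mul, map_mul]; exact hc.is_comm.comm _ _)⟩⟩
  refine ⟨M, hM, hMs, hMnc, heven, h.eq_bot_of_odd_or_two (Or.inl fun hd => ?_)⟩
  obtain ⟨⟨t, htC⟩, ht⟩ := exists_prime_orderOf_dvd_card' 2 hd
  rw [Subgroup.orderOf_mk] at ht
  haveI := h.solvable ht
  have hle : M ≤ centralizer ({t} : Set G) := fun y hy =>
    mem_centralizer_singleton_iff.2 (mem_centralizer_iff.1 htC y hy)
  haveI : Group.IsSolvable M :=
    Group.isSolvable_of_isSolvable_injective (Subgroup.inclusion_injective hle)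
  exact hMnc ⟨⟨IsSimpleGroup.comm_iff_isSolvable.2 inferInstance⟩⟩

end Ctx

/-- A central elementary Sylow subgroup of `M` is all of `P`. -/
theorem sylow_le_of_central (M : Subgroup G) [hM : M.Normal] [IsSimpleGroup M]
    (hnc : ¬ IsMulCommutative M) (hC : centralizer (M : Set G) = ⊥) (Q : Sylow 2 M)
    [IsMulCommutative (Q : Subgroup M)] (P : Sylow 2 G)
    (hcen : ∀ x ∈ (Q : Subgroup M), ∀ s ∈ (P : Subgroup G), s * (x : G) = (x : G) * s) :
    (P : Subgroup G) ≤ M := by
  haveI : Fact (Nat.Prime 2) := ⟨Nat.prime_two⟩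
  intro s hs
  have hZ : Subgroup.center M = ⊥ :=
    (inferInstance : (Subgroup.center M).Normal).eq_bot_or_eq_top.resolve_right fun e =>
      hnc ⟨⟨fun x y => (mem_center_iff.1 (e ▸ mem_top x) y).symm⟩⟩
  have hO : Cfsg.pPrimeCore 2 M = ⊥ :=
    (Cores.pPrimeCore_normal 2 M).eq_bot_or_eq_top.resolve_right fun e => by
      have h1 := Cores.coprime_card_pPrimeCore (G := M) 2
      rw [e, card_top] at h1
      haveI : Group.IsSolvable M := OddOrderTheorem.solvable (Nat.coprime_two_right.1 h1)
      exact hnc ⟨⟨IsSimpleGroup.comm_iff_isSolvable.2 inferInstance⟩⟩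
  obtain ⟨k, hk⟩ := (IsPGroup.iff_orderOf.1 P.isPGroup') ⟨s, hs⟩
  rw [Subgroup.orderOf_mk] at hk
  obtain ⟨j, -, hj⟩ := (Nat.dvd_prime_pow Nat.prime_two).1
    (hk ▸ orderOf_map_dvd (MulAut.conjNormal : G →* MulAut M) s)
  obtain ⟨m, hm⟩ := ZStar.aut_inner_of_abelian_sylow ZStar.uniqueInvolution hZ hO Q
    (MulAut.conjNormal s : MulAut M) ⟨j, hj⟩
    fun x hx => Subtype.ext (by
      rw [MulAut.conjNormal_apply, hcen x hx s hs, mul_inv_cancel_right])
  have hm' : (m : G)⁻¹ * s ∈ centralizer (M : Set G) := mem_centralizer_iff.2 fun y hy => by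
    have e1 : (m : G) * y * (m : G)⁻¹ = s * y * s⁻¹ := by
      have := congrArg Subtype.val (DFunLike.congr_fun hm (⟨y, hy⟩ : M))
      simpa using this
    calc y * ((m : G)⁻¹ * s) = (m : G)⁻¹ * ((m : G) * y * (m : G)⁻¹) * s := by group
      _ = (m : G)⁻¹ * s * y := by rw [e1]; group
  rw [hC, mem_bot, inv_mul_eq_one] at hm'
  exact hm' ▸ m.2

/-- In a simple group with 2-nilpotent involution centralisers the Sylow 2-subgroup normaliser is
strongly embedded, provided the centralisers are 2-groups and conjugates of a central involution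
are central in the Sylow subgroups containing them. -/
theorem stronglyEmbedded_of_central {L : Type*} [Group L] [Finite L] (Q : Sylow 2 L)
    (hnn : ¬ (Q : Subgroup L).Normal)
    (hcit : ∀ x : L, orderOf x = 2 → IsPGroup 2 (centralizer ({x} : Set L)))
    {z : L} (hzQ : z ∈ (Q : Subgroup L)) (hz : orderOf z = 2)
    (hcen : ∀ (g : L) (R : Sylow 2 L), g * z * g⁻¹ ∈ (R : Subgroup L) →
      ∀ s ∈ (R : Subgroup L), s * (g * z * g⁻¹) = g * z * g⁻¹ * s) :
    Cfsg.IsStronglyEmbedded (normalizer ((Q : Subgroup L) : Set L)) := by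
  haveI : Fact (Nat.Prime 2) := ⟨Nat.prime_two⟩
  have hzc : ∀ s ∈ (Q : Subgroup L), s * z = z * s := fun s hs => by
    simpa using hcen 1 Q (by simpa using hzQ) s hs
  have hCz : centralizer ({z} : Set L) = (Q : Subgroup L) :=
    Q.is_maximal' (hcit z hz) fun s hs => mem_centralizer_singleton_iff.2 (hzc s hs)
  have hle : ∀ x ∈ (Q : Subgroup L), orderOf x = 2 →
      centralizer ({x} : Set L) ≤ (Q : Subgroup L) := by
    intro x hx hx2
    obtain ⟨R, hR⟩ := (hcit x hx2).exists_le_sylow
    have hzR : z ∈ (R : Subgroup L) := hR (mem_centralizer_singleton_iff.2 (hzc x hx).symm)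
    have hRQ : (R : Subgroup L) ≤ (Q : Subgroup L) := fun r hr => hCz.le <|
      mem_centralizer_singleton_iff.2 (by simpa using hcen 1 R (by simpa using hzR) r hr)
    exact hR.trans hRQ
  refine Involution.isStronglyEmbedded_iff_forall.2
    ⟨fun e => hnn (normalizer_eq_top_iff.1 e), ?_, fun g t ht htN hgN => ?_⟩
  · exact even_iff_two_dvd.2 (dvd_trans (dvd_of_eq hz.symm) (Subgroup.orderOf_dvd_natCard _ (le_normalizer hzQ)))
  -- the involutions of the normaliser lie in `Q`
  have hinQ : ∀ x : L, orderOf x = 2 → x ∈ normalizer ((Q : Subgroup L) : Set L) →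
      x ∈ (Q : Subgroup L) := fun x hx hxN =>
    CentralMeet.mem_sylow_of_two_elt Q hxN (k := 1) (by rw [hx, pow_one])
  have htQ := hinQ t ht htN
  have ht' : orderOf (g * t * g⁻¹) = 2 := by rw [orderOf_conj, ht]
  have hgQ := hinQ _ ht' hgN
  have hzt : g * z * g⁻¹ ∈ (Q : Subgroup L) := hle _ hgQ ht' (mem_centralizer_singleton_iff.2 (by
    have e := hzc t htQ
    calc g * z * g⁻¹ * (g * t * g⁻¹) = g * (z * t) * g⁻¹ := by group
      _ = g * (t * z) * g⁻¹ := by rw [e]
      _ = g * t * g⁻¹ * (g * z * g⁻¹) := by group))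
  have hsub : ∀ s ∈ (Q : Subgroup L), g⁻¹ * s * g ∈ (Q : Subgroup L) := fun s hs => hCz.le <|
    mem_centralizer_conj.1 (mem_centralizer_singleton_iff.2 (hcen g Q hzt s hs))
  have hmem : g⁻¹ ∈ normalizer ((Q : Subgroup L) : Set L) := mem_normalizer_fintype fun s hs => by
    rw [inv_inv]; exact hsub s hs
  simpa using inv_mem hmem

namespace Ctx

variable (h : Ctx P)

include h

/-- `G` is a Suzuki group unless `P` is elementary abelian with all involutions fused. -/
theorem iso_suzuki
    (hd : ¬ (Cfsg.IsElementaryAbelian 2 (P : Subgroup G) ∧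
      ∀ x ∈ (P : Subgroup G), ∀ y ∈ (P : Subgroup G), x ≠ 1 → y ≠ 1 → ∃ g : G, g * x * g⁻¹ = y)) :
    Cfsg.Lie.IsoSuzuki G := by
  classical
  obtain ⟨M, hM, hMs, hMnc, heven, hC⟩ := h.exists_simple_normal
  haveI := hM
  haveI := hMs
  have hnil : TwoNilCent.TwoNil M := by
    intro x hx
    refine Transfer.hasNormalPComplement_of_injective
      (h.nil_prime (x := (x : G)) (by rw [Subgroup.orderOf_coe, hx]))
      ((M.subtype.comp (centralizer ({x} : Set M)).subtype).codRestrict _ fun y =>
        mem_centralizer_singleton_iff.2 (congrArg Subtype.val (mem_centralizer_singleton_iff.1 y.2)))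
      fun a b hab => ?_
    exact Subtype.ext (Subtype.ext (congrArg (fun c => (c.1 : G)) hab))
  obtain ⟨Q, hQ⟩ := Cores.sylow_inf_isSubnormal P (H := M) (Subgroup.Normal.isSubnormal hM)
  have hQP : ∀ x : M, x ∈ (Q : Subgroup M) ↔ (x : G) ∈ (P : Subgroup G) := fun x => by
    rw [hQ, mem_subgroupOf]
  -- a central involution of `P` in `M`, and another one fused to it
  obtain ⟨a, haM, haP, ha, hac⟩ := Ctx.exists_central (P := P) M heven
  have ha1 : a ≠ 1 := fun e => by rw [e, orderOf_one] at ha; omega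
  have hmove : ∀ u ∈ (P : Subgroup G), u ∈ M → orderOf u = 2 →
      (∀ s ∈ (P : Subgroup G), s * u = u * s) →
      ∃ n ∈ normalizer ((P : Subgroup G) : Set G), n * u * n⁻¹ ≠ u := by
    intro u huP huM hu huc
    by_contra hno
    push Not at hno
    have hu1 : u ≠ 1 := fun e => by rw [e, orderOf_one] at hu; omega
    have hiso : ∀ g : G, g * u * g⁻¹ ∈ (P : Subgroup G) → g * u * g⁻¹ = u := fun g hg => by
      obtain ⟨n, hn, he⟩ := h.fusion u huP _ hg ⟨g, rfl⟩
      rw [← he]; exact hno n hn
    have hucent : u ∈ center G :=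
      ZStar.isolated_mem_center ZStar.uniqueInvolution (ZStar.isolated_of_sylow P hu huP hiso) h.core
    have hCu : centralizer ({u} : Set G) = ⊤ := eq_top_iff.2 fun g _ =>
      mem_centralizer_singleton_iff.2 (mem_center_iff.1 hucent g)
    have hG := Transfer.hasNormalPComplement_of_equiv (h.nil_prime hu)
      ((MulEquiv.subgroupCongr hCu).trans topEquiv)
    refine h.notNormal ?_
    have hp : IsPGroup 2 G := by
      obtain ⟨k, hk⟩ := Transfer.exists_index_pResidual (G := G) (p := 2)
      have hb : pResidual 2 G = ⊥ := le_bot_iff.1 (h.core ▸ Cores.le_pPrimeCore Transfer.pResidual_normal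
        (Transfer.hasNormalPComplement_iff_coprime.1 hG))
      rw [hb, index_bot] at hk
      exact IsPGroup.of_card hk
    have htop : (P : Subgroup G) = ⊤ :=
      (P.is_maximal' (hp.to_subgroup ⊤) le_top).symm
    rw [htop]; infer_instance
  obtain ⟨n, hn, hnb⟩ := hmove a haP haM ha hac
  set b := n * a * n⁻¹ with hb
  have hbM : b ∈ M := hM.conj_mem a haM n
  have hbP : b ∈ (P : Subgroup G) := (mem_normalizer_iff.1 hn a).1 haP
  have hbc : ∀ s ∈ (P : Subgroup G), s * b = b * s := fun s hs => h.central haP hac n P hbP hs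
  have hb2 : orderOf b = 2 := by rw [hb, orderOf_conj, ha]
  have hb1 : b ≠ 1 := fun e => by rw [e, orderOf_one] at hb2; omega
  have haa : a * a = 1 := by rw [← pow_two, ← ha, pow_orderOf_eq_one]
  have hbb : b * b = 1 := by rw [← pow_two, ← hb2, pow_orderOf_eq_one]
  have hab : a * b = b * a := hbc a haP
  -- centrality of the conjugates inside `M`
  have hcenM : ∀ (g : M) (R : Sylow 2 M), g * ⟨a, haM⟩ * g⁻¹ ∈ (R : Subgroup M) →
      ∀ s ∈ (R : Subgroup M), s * (g * ⟨a, haM⟩ * g⁻¹) = g * ⟨a, haM⟩ * g⁻¹ * s := by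
    intro g R hgR s hs
    obtain ⟨R', hR'⟩ := (R.2.map M.subtype).exists_le_sylow
    exact Subtype.ext (h.central haP hac (g : G) R' (hR' ⟨_, hgR, rfl⟩) (hR' ⟨s, hs, rfl⟩))
  -- the end when the Sylow subgroup of `M` is central and elementary
  have hend : Cfsg.IsElementaryAbelian 2 (Q : Subgroup M) →
      (∀ x ∈ (Q : Subgroup M), x ≠ 1 → ∃ g : G, g * a * g⁻¹ = (x : G)) →
      False := by
    intro hel hfus
    haveI := hel.1
    have hcen : ∀ x ∈ (Q : Subgroup M), ∀ s ∈ (P : Subgroup G), s * (x : G) = (x : G) * s := by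
      intro x hx s hs
      rcases eq_or_ne x 1 with rfl | hx1
      · simp
      obtain ⟨g, hg⟩ := hfus x hx hx1
      rw [← hg]
      exact h.central haP hac g P (hg ▸ (hQP x).1 hx) hs
    have hPM := sylow_le_of_central M hMnc hC Q P hcen
    refine hd ⟨⟨⟨⟨fun x y => ?_⟩⟩, fun x hx => ?_⟩, fun x hx y hy hx1 hy1 => ?_⟩
    · exact Subtype.ext (hcen ⟨y, hPM y.2⟩ ((hQP _).2 y.2) x x.2)
    · exact congrArg Subtype.val (hel.2 ⟨x, hPM hx⟩ ((hQP _).2 hx))
    · obtain ⟨g₁, e₁⟩ := hfus ⟨x, hPM hx⟩ ((hQP _).2 hx) fun e => hx1 (congrArg Subtype.val e)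
      obtain ⟨g₂, e₂⟩ := hfus ⟨y, hPM hy⟩ ((hQP _).2 hy) fun e => hy1 (congrArg Subtype.val e)
      refine ⟨g₂ * g₁⁻¹, ?_⟩
      simp only at e₁ e₂
      rw [← e₁, ← e₂]
      group
  by_cases h2 : Cfsg.PRankLE 2 2 M
  · exfalso
    -- the involutions of `Q` are `a`, `b`, `a b`
    set a' : M := ⟨a, haM⟩
    set b' : M := ⟨b, hbM⟩
    have hA : ∀ x ∈ (Q : Subgroup M), x * x = 1 → x = 1 ∨ x = a' ∨ x = b' ∨ x = a' * b' := by
      intro x hx hxx
      by_contra hno
      push Not at hno
      obtain ⟨hx1, hxa, hxb, hxab⟩ := hno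
      have ca : Commute x a' := Subtype.ext (hac _ ((hQP x).1 hx))
      have cb : Commute x b' := Subtype.ext (hbc _ ((hQP x).1 hx))
      have cab : Commute a' b' := Subtype.ext hab
      have hz : ∀ {y : M}, y * y = 1 → Cfsg.IsElementaryAbelian 2 (zpowers y) := fun hy =>
        CoreKilling.isElementaryAbelian_zpowers (by rw [pow_two]; exact hy)
      have sa : a' * a' = 1 := Subtype.ext haa
      have sb : b' * b' = 1 := Subtype.ext hbb
      have oa : orderOf a' = 2 := by rw [Subgroup.orderOf_mk, ha]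
      have na : a' ≠ 1 := fun e => ha1 (congrArg Subtype.val e)
      have nb : b' ≠ 1 := fun e => hb1 (congrArg Subtype.val e)
      have nab : b' ≠ a' := fun e => hnb (congrArg Subtype.val e)
      have mem_za : ∀ y ∈ zpowers a', y = 1 ∨ y = a' := by
        intro y hy
        obtain ⟨i, rfl⟩ := mem_zpowers_iff.1 hy
        rcases Int.emod_two_eq_zero_or_one i with hi | hi <;> rw [← zpow_mod_orderOf, oa]
        · left; simp [hi]
        · right; simp [hi]
      have hE₀ : Cfsg.IsElementaryAbelian 2 (zpowers a' ⊔ zpowers b') := by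
        refine Signalizer.elemAb_sup (hz sa) (hz sb) fun u hu v hv => ?_
        obtain ⟨i, rfl⟩ := mem_zpowers_iff.1 hu
        obtain ⟨j, rfl⟩ := mem_zpowers_iff.1 hv
        exact (cab.zpow_zpow i j).eq
      have hbza : b' ∉ zpowers a' := fun hb' => (mem_za b' hb').elim nb nab
      have hE₀4 : Nat.card ↥(zpowers a' ⊔ zpowers b') = 4 := by
        rw [Signalizer.card_sup_zpowers hE₀ le_sup_left
          (le_sup_right (a := zpowers a') (mem_zpowers b')) hbza, Nat.card_zpowers, oa]
      have hxE₀ : x ∉ zpowers a' ⊔ zpowers b' := by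
        intro hxmem
        rw [← SetLike.mem_coe, Subgroup.coe_mul_of_right_le_normalizer_left _ _
          (Signalizer.le_normalizer_of_commute fun v hv u hu => (Signalizer.commute_of_isMulCommutative
            hE₀.1 (mem_sup_right hv) (mem_sup_left hu)))] at hxmem
        obtain ⟨u, hu, v, hv, rfl⟩ := hxmem
        obtain ⟨j, rfl⟩ := mem_zpowers_iff.1 hv
        have hb2' : orderOf b' = 2 := by rw [Subgroup.orderOf_mk, hb2]
        rcases Int.emod_two_eq_zero_or_one j with hj | hj <;>
          rcases mem_za u hu with rfl | rfl <;>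
          simp only [← zpow_mod_orderOf b' j, hb2', Nat.cast_ofNat, hj, zpow_zero, zpow_one,
            one_mul, mul_one] at hx1 hxa hxb hxab
        all_goals first | exact hx1 rfl | exact hxa rfl | exact hxb rfl | exact hxab rfl
      have hE : Cfsg.IsElementaryAbelian 2 (zpowers a' ⊔ zpowers b' ⊔ zpowers x) := by
        refine Signalizer.elemAb_sup hE₀ (hz hxx) fun u hu v hv => ?_
        obtain ⟨j, rfl⟩ := mem_zpowers_iff.1 hv
        have hle : zpowers a' ⊔ zpowers b' ≤ centralizer ({x} : Set M) := sup_le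
          (zpowers_le.2 (mem_centralizer_singleton_iff.2 ca.symm.eq))
          (zpowers_le.2 (mem_centralizer_singleton_iff.2 cb.symm.eq))
        exact ((show Commute u x from mem_centralizer_singleton_iff.1 (hle hu)).zpow_right j).eq
      have h8 := h2 _ hE.1 hE.2
      rw [Signalizer.card_sup_zpowers hE le_sup_left
        (le_sup_right (a := zpowers a' ⊔ zpowers b') (mem_zpowers x)) hxE₀, hE₀4] at h8
      omega
    have hcenQ : ∀ x ∈ (Q : Subgroup M), x * x = 1 → ∀ y ∈ (Q : Subgroup M), y * x = x * y := by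
      intro x hx hxx y hy
      have hy' := (hQP y).1 hy
      have c1 : y * a' = a' * y := Subtype.ext (hac _ hy')
      have c2 : y * b' = b' * y := Subtype.ext (hbc _ hy')
      rcases hA x hx hxx with rfl | rfl | rfl | rfl
      · simp
      · exact c1
      · exact c2
      · rw [← mul_assoc, c1, mul_assoc, c2, ← mul_assoc]
    have hfour : Nat.card {x : ↥(Q : Subgroup M) // x * x = 1} ≤ 4 ∧
        4 ≤ Nat.card {x : ↥(Q : Subgroup M) // x * x = 1} := by
      have haQ : a' ∈ (Q : Subgroup M) := (hQP _).2 haP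
      have hbQ : b' ∈ (Q : Subgroup M) := (hQP _).2 hbP
      let g : Fin 4 → {x : ↥(Q : Subgroup M) // x * x = 1} := ![⟨1, one_mul 1⟩,
        ⟨⟨a', haQ⟩, Subtype.ext (Subtype.ext haa)⟩, ⟨⟨b', hbQ⟩, Subtype.ext (Subtype.ext hbb)⟩,
        ⟨⟨a' * b', mul_mem haQ hbQ⟩, Subtype.ext (Subtype.ext (by
          show a * b * (a * b) = 1
          calc a * b * (a * b) = a * (b * a) * b := by group
            _ = a * (a * b) * b := by rw [hab]
            _ = 1 := by rw [← mul_assoc a a b, haa, one_mul, hbb]))⟩]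
      refine ⟨?_, ?_⟩
      · refine le_of_le_of_eq (Nat.card_le_card_of_surjective g fun x => ?_) (Nat.card_fin 4)
        rcases hA x.1.1 x.1.2 (congrArg Subtype.val x.2) with e | e | e | e
        · exact ⟨0, Subtype.ext (Subtype.ext e.symm)⟩
        · exact ⟨1, Subtype.ext (Subtype.ext e.symm)⟩
        · exact ⟨2, Subtype.ext (Subtype.ext e.symm)⟩
        · exact ⟨3, Subtype.ext (Subtype.ext e.symm)⟩
      · refine le_of_eq_of_le (Nat.card_fin 4).symm (Nat.card_le_card_of_injective g fun i j e => ?_)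
        have e' : ((g i).1.1 : G) = ((g j).1.1 : G) := by rw [e]
        have h3 : a * b ≠ 1 := fun e3 => hnb
          ((inv_eq_of_mul_eq_one_right e3).symm.trans (inv_eq_of_mul_eq_one_right haa))
        have h4 : a ≠ b := fun e4 => hnb e4.symm
        fin_cases i <;> fin_cases j <;> simp [g, a', b'] at e' <;>
          first
            | rfl
            | exact absurd e' ha1 | exact absurd e'.symm ha1
            | exact absurd e' hb1 | exact absurd e'.symm hb1
            | exact absurd e' h3 | exact absurd e'.symm h3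
            | exact absurd e' h4 | exact absurd e'.symm h4
    by_cases hQc : IsMulCommutative (Q : Subgroup M)
    · have hrk : Cfsg.PRankLE 2 2 (Q : Subgroup M) := fun E hEc hE2 => by
        refine le_trans (le_of_eq (Subgroup.card_map_of_injective (K := E)
          (Q : Subgroup M).subtype_injective).symm) (h2 (E.map (Q : Subgroup M).subtype) ?_ ?_)
        · exact Subgroup.map_isMulCommutative _ _
        · rintro _ ⟨y, hy, rfl⟩
          rw [← map_pow, hE2 y hy, map_one]
      have hO : Cfsg.oddCore M = ⊥ :=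
        (Cores.pPrimeCore_normal 2 M).eq_bot_or_eq_top.resolve_right fun e => by
          have h1 : ¬ 2 ∣ Nat.card (Cfsg.pPrimeCore 2 M) := Cores.not_dvd_card_pPrimeCore
          change Cfsg.pPrimeCore 2 M = ⊤ at e
          rw [e, card_top] at h1
          exact h1 heven
      have hnn : ¬ (Q : Subgroup M).Normal := fun hn' => by
        rcases hn'.eq_bot_or_eq_top with e | e
        · have h1 := (hQP a').2 haP
          rw [e, mem_bot] at h1
          exact ha1 (congrArg Subtype.val h1)
        · exact hMnc ⟨⟨fun x y => congrArg Subtype.val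
            (hQc.is_comm.comm ⟨x, e ▸ mem_top x⟩ ⟨y, e ▸ mem_top y⟩)⟩⟩
      rcases AbelianSylowTwo.rankLE_two_cases hO Q hQc hrk with e | hk | ⟨m, hm, ⟨e⟩⟩
      · exact hnn (e ▸ inferInstance)
      · haveI := hk
        have hexp : ∀ x : ↥(Q : Subgroup M), x * x = 1 := fun x => by
          have h1 := Monoid.pow_exponent_eq_one x
          rwa [hk.exponent_two, pow_two] at h1
        refine hend ⟨hQc, fun x hx => by rw [pow_two]; exact congrArg Subtype.val (hexp ⟨x, hx⟩)⟩
          fun x hx hx1 => ?_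
        rcases hA x hx (congrArg Subtype.val (hexp ⟨x, hx⟩)) with rfl | rfl | rfl | rfl
        · exact absurd rfl hx1
        · exact ⟨1, by show (1 : G) * a * 1⁻¹ = a; group⟩
        · exact ⟨n, rfl⟩
        · -- the third involution is fused to one of the others
          have habM : a * b ∈ M := mul_mem haM hbM
          have habP : a * b ∈ (P : Subgroup G) := mul_mem haP hbP
          have hab2 : orderOf (a * b) = 2 := orderOf_eq_prime (by
            rw [(show Commute a b from hab).mul_pow, pow_two, pow_two, haa, hbb, one_mul]) fun e => hx1 (Subtype.ext e)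
          obtain ⟨k, hk', hne⟩ := hmove _ habP habM hab2
            (fun s hs => by rw [← mul_assoc, hac s hs, mul_assoc, hbc s hs, ← mul_assoc])
          have hcP : k * (a * b) * k⁻¹ ∈ (P : Subgroup G) := (mem_normalizer_iff.1 hk' _).1 habP
          have hcM : k * (a * b) * k⁻¹ ∈ M := hM.conj_mem _ habM k
          have hcc : k * (a * b) * k⁻¹ * (k * (a * b) * k⁻¹) = 1 := by
            rw [← pow_two, ← hab2, ← orderOf_conj k (a * b), pow_orderOf_eq_one]
          rcases hA ⟨_, hcM⟩ ((hQP _).2 hcP) (Subtype.ext hcc) with e | e | e | e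
          · have e' : k * (a * b) * k⁻¹ = 1 := congrArg Subtype.val e
            rw [conj_eq_one_iff] at e'
            exact absurd e' fun e3 => hx1 (Subtype.ext e3)
          · have e' : k * (a * b) * k⁻¹ = a := congrArg Subtype.val e
            exact ⟨k⁻¹, by
              show k⁻¹ * a * k⁻¹⁻¹ = a * b
              calc k⁻¹ * a * k⁻¹⁻¹ = k⁻¹ * (k * (a * b) * k⁻¹) * k⁻¹⁻¹ := by rw [e']
                _ = a * b := by group⟩
          · have e' : k * (a * b) * k⁻¹ = b := congrArg Subtype.val e
            exact ⟨k⁻¹ * n, by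
              show k⁻¹ * n * a * (k⁻¹ * n)⁻¹ = a * b
              calc k⁻¹ * n * a * (k⁻¹ * n)⁻¹ = k⁻¹ * (n * a * n⁻¹) * k := by group
                _ = k⁻¹ * (k * (a * b) * k⁻¹) * k := by rw [e']
                _ = a * b := by group⟩
          · exact absurd (congrArg Subtype.val e) hne
      · exact hnn (S0949.result Q m hm e fun N hN hodd => by
          rcases hN.eq_bot_or_eq_top with e' | e'
          · exact e'
          · rw [e', card_top] at hodd
            exact absurd (even_iff_two_dvd.2 heven) (Nat.not_even_iff_odd.2 hodd)).1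
    · -- three involutions, non-abelian Sylow subgroup
      let A : Subgroup M :=
        { carrier := {x | x ∈ (Q : Subgroup M) ∧ x * x = 1}
          one_mem' := ⟨one_mem _, one_mul 1⟩
          mul_mem' := fun {x y} hx hy => ⟨mul_mem hx.1 hy.1, by
            calc x * y * (x * y) = x * (y * x) * y := by group
              _ = x * (x * y) * y := by rw [hcenQ x hx.1 hx.2 y hy.1]
              _ = 1 := by rw [← mul_assoc x x y, hx.2, one_mul, hy.2]⟩
          inv_mem' := fun {x} hx => ⟨inv_mem hx.1, by rw [← mul_inv_rev, hx.2, inv_one]⟩ }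
      have hS : Goldschmidt.ThreeInv.Setting Q A := {
        card := by
          have : Nat.card A = Nat.card {x : ↥(Q : Subgroup M) // x * x = 1} :=
            Nat.card_congr
              { toFun := fun x => ⟨⟨x.1, x.2.1⟩, Subtype.ext x.2.2⟩
                invFun := fun x => ⟨x.1.1, x.1.2, congrArg Subtype.val x.2⟩
                left_inv := fun _ => rfl
                right_inv := fun _ => rfl }
          omega
        le := fun x hx => hx.1
        mem := fun x hx => ⟨fun e => ⟨hx, e⟩, fun e => e.2⟩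
        central := fun s hs => mem_centralizer_iff.2 fun x hx => (hcenQ x hx.1 hx.2 s hs).symm
        nonab := hQc }
      exact TwoNilCent.false_of_shape hMnc hnil Q hS.usylow.shape
  · -- rank at least three
    have hcit : ∀ x : M, orderOf x = 2 → IsPGroup 2 (centralizer ({x} : Set M)) := fun x hx =>
      hnil.isPGroup_centralizer_of_rank hMnc h2 hx
    have haQ : (⟨a, haM⟩ : M) ∈ (Q : Subgroup M) := (hQP _).2 haP
    have hao : orderOf (⟨a, haM⟩ : M) = 2 := by rw [Subgroup.orderOf_mk, ha]
    have hnn : ¬ (Q : Subgroup M).Normal := fun hn' => by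
      rcases hn'.eq_bot_or_eq_top with e | e
      · rw [e, mem_bot] at haQ
        exact ha1 (congrArg Subtype.val haQ)
      · have hp : IsPGroup 2 M := (e ▸ Q.isPGroup').of_equiv topEquiv
        haveI := hp.isNilpotent
        exact hMnc ⟨⟨IsSimpleGroup.comm_iff_isSolvable.2 inferInstance⟩⟩
    have hSE := stronglyEmbedded_of_central Q hnn hcit haQ hao hcenM
    have h2I : SuzukiRankOne.TwoInvolutions M :=
      ⟨⟨a, haM⟩, ⟨b, hbM⟩, fun e => ha1 (congrArg Subtype.val e), fun e => hb1 (congrArg Subtype.val e),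
        fun e => hnb (congrArg Subtype.val e).symm, Subtype.ext haa, Subtype.ext hbb, Subtype.ext hab⟩
    rcases elementary_or_suzuki hSE h2I hcit with hel | hsz
    · exfalso
      refine hend (hel Q) fun x hx hx1 => ?_
      obtain ⟨g, hg⟩ := isConj_iff.1 (Involution.isConj_involutions hSE hao
        (orderOf_eq_prime ((hel Q).2 x hx) hx1))
      exact ⟨g, congrArg Subtype.val hg⟩
    obtain ⟨q, hfacts⟩ := Goldschmidt.ThreePrime.szFacts hsz
    have hPM : (P : Subgroup G) ≤ M := by
      intro s hs
      obtain ⟨k, hk⟩ := (IsPGroup.iff_orderOf.1 P.isPGroup') ⟨s, hs⟩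
      rw [Subgroup.orderOf_mk] at hk
      obtain ⟨m, hm⟩ := hfacts.inner (MulAut.conjNormal s) ⟨k, by
        rw [← map_pow, ← hk, pow_orderOf_eq_one, map_one]⟩
      have hm' : (m : G)⁻¹ * s ∈ centralizer (M : Set G) := mem_centralizer_iff.2 fun y hy => by
        have e1 : s * y * s⁻¹ = (m : G) * y * (m : G)⁻¹ := by
          have := congrArg Subtype.val (DFunLike.congr_fun hm (⟨y, hy⟩ : M))
          simpa using this
        calc y * ((m : G)⁻¹ * s) = (m : G)⁻¹ * ((m : G) * y * (m : G)⁻¹) * s := by group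
          _ = (m : G)⁻¹ * s * y := by rw [← e1]; group
      rw [hC, mem_bot, inv_mul_eq_one] at hm'
      exact hm' ▸ m.2
    have htop : M = ⊤ := by
      rw [eq_top_iff]
      intro g _
      obtain ⟨l, hl⟩ := isConj_iff.1 (Involution.isConj_involutions hSE hao
        (show orderOf (⟨g * a * g⁻¹, hM.conj_mem a haM g⟩ : M) = 2 by
          rw [Subgroup.orderOf_mk, orderOf_conj, ha]))
      have hl' : (l : G) * a * (l : G)⁻¹ = g * a * g⁻¹ := congrArg Subtype.val hl
      -- the centraliser of `a` lies in `M`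
      suffices hCa : centralizer ({a} : Set G) ≤ M by
        have h1 : (l : G)⁻¹ * g ∈ M := hCa (mem_centralizer_singleton_iff.2 (by
          calc (l : G)⁻¹ * g * a = (l : G)⁻¹ * (g * a * g⁻¹) * g := by group
            _ = a * ((l : G)⁻¹ * g) := by rw [← hl']; group))
        simpa using mul_mem l.2 h1
      set C := centralizer ({a} : Set G) with hCdef
      have hc := h.nil_prime ha
      have hPC : (P : Subgroup G) ≤ C := fun s hs => mem_centralizer_singleton_iff.2 (hac s hs)
      have hRM : (pResidual 2 C).map C.subtype ≤ M := by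
        rintro _ ⟨⟨r, hrC⟩, hr, rfl⟩
        show r ∈ M
        have hro : Odd (orderOf r) := by
          have := (Transfer.mem_pResidual_iff hc _).1 hr
          rw [Subgroup.orderOf_mk] at this
          exact Nat.coprime_two_right.1 this
        haveI : (pResidual 2 C).Normal := Transfer.pResidual_normal
        have hcomm : ∀ z ∈ (Q : Subgroup M), r * (z : G) = (z : G) * r := by
          intro z hz
          set c : C := ⟨r, hrC⟩ * ⟨z, hPC ((hQP z).1 hz)⟩ * (⟨r, hrC⟩ : C)⁻¹ *
            (⟨z, hPC ((hQP z).1 hz)⟩ : C)⁻¹ with hcdef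
          have hcR : c ∈ pResidual 2 C := by
            have h1 := (inferInstance : (pResidual 2 C).Normal).conj_mem _ (inv_mem hr)
              ⟨z, hPC ((hQP z).1 hz)⟩
            have h2' := mul_mem hr h1
            convert h2' using 1
            simp only [hcdef, mul_assoc]
          have hcM : (c : G) ∈ M := mul_mem (hM.conj_mem _ z.2 r) (inv_mem z.2)
          have hcC' : (⟨(c : G), hcM⟩ : M) ∈ centralizer ({(⟨a, haM⟩ : M)} : Set M) :=
            mem_centralizer_singleton_iff.2 (Subtype.ext (mem_centralizer_singleton_iff.1 c.2))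
          obtain ⟨j, hj⟩ := (IsPGroup.iff_orderOf.1 (hcit _ hao)) ⟨_, hcC'⟩
          rw [Subgroup.orderOf_mk, Subgroup.orderOf_mk] at hj
          have hco := (Transfer.mem_pResidual_iff hc _).1 hcR
          rw [← Subgroup.orderOf_coe, hj] at hco
          have hj0 : j = 0 := by
            by_contra hj0
            exact Nat.prime_two.ne_one (Nat.Coprime.eq_one_of_dvd hco.symm (dvd_pow_self 2 hj0))
          rw [hj0, pow_zero, orderOf_eq_one_iff] at hj
          have e1 : r * (z : G) * r⁻¹ * (z : G)⁻¹ = 1 := hj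
          exact mul_inv_eq_iff_eq_mul.1 (mul_inv_eq_one.1 e1)
        have hα : (MulAut.conjNormal r : MulAut M) = 1 := by
          refine hfacts.odd_fix Q _ (hro.of_dvd_nat (orderOf_map_dvd _ r)) fun z hz => Subtype.ext ?_
          rw [MulAut.conjNormal_apply, hcomm z hz.1, mul_inv_cancel_right]
        have h1 : r ∈ centralizer (M : Set G) := mem_centralizer_iff.2 fun y hy => by
          have e1 : r * y * r⁻¹ = y := by
            have := congrArg Subtype.val (DFunLike.congr_fun hα (⟨y, hy⟩ : M))
            simpa using this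
          exact (mul_inv_eq_iff_eq_mul.1 e1).symm
        rw [hC, mem_bot] at h1
        rw [h1]
        exact one_mem M
      intro c hcmem
      have hsup := RankOneSylow.sup_eq_top_of_complement (P.subtype hPC) hc
      haveI : (Cfsg.pPrimeCore 2 C).Normal := Cores.pPrimeCore_normal 2 C
      have hmap : ((P.subtype hPC : Sylow 2 C) : Subgroup C) ⊔ Cfsg.pPrimeCore 2 C ≤ M.subgroupOf C := by
        refine sup_le (fun x hx => mem_subgroupOf.2 (hPM hx)) fun x hx => mem_subgroupOf.2 (hRM ⟨x, ?_, rfl⟩)
        exact (Transfer.mem_pResidual_iff hc _).2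
          ((Cores.coprime_card_pPrimeCore (G := C) 2).coprime_dvd_left (Subgroup.orderOf_dvd_natCard _ hx))
      rw [hsup] at hmap
      exact mem_subgroupOf.1 (hmap (mem_top (⟨c, hcmem⟩ : C)))
    obtain ⟨F, _, _, m, hm, hF, ⟨f⟩⟩ := hsz
    exact ⟨F, _, _, m, hm, hF, ⟨((topEquiv (G := G)).symm.trans (MulEquiv.subgroupCongr htop.symm)).trans f⟩⟩

end Ctx

end Cfsg.Agent.FusionSuzuki
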